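import Cfsg.Prelude.Def_RootSubgroups
import Mathlib.GroupTheory.Nilpotent

/-!
A conjugation-invariant family of subgroups of `GL(M)`, any two of which generate a unipotent
subgroup, generates a unipotent subgroup (Alperin–Lyons style argument).
-/

set_option autoImplicit false
set_option linter.unusedSectionVars false

namespace Cfsg.Agent.RootSubgroups.UnipotentJoin

open Cfsg
open scoped Pointwise commutatorElement

variable {k : Type*} [Field k] {M : Type*} [AddCommGroup M] [Module k M]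

local notation "GLM" => LinearMap.GeneralLinearGroup k M
local notation "EndM" => Module.End k M

/-- The span of the endomorphisms `g - 1`, `g ∈ H`. -/
def disp (H : Subgroup GLM) : Submodule k EndM :=
  Submodule.span k ((fun g : GLM => (g : EndM) - 1) '' (H : Set GLM))

theorem mem_disp {H : Subgroup GLM} {g : GLM} (hg : g ∈ H) : (g : EndM) - 1 ∈ disp H :=
  Submodule.subset_span ⟨g, hg, rfl⟩

theorem disp_mono {H K : Subgroup GLM} (h : H ≤ K) : disp H ≤ disp K :=
  Submodule.span_mono (Set.image_mono h)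

theorem mul_sub_one (x y : EndM) : x * y - 1 = (x - 1) * (y - 1) + (x - 1) + (y - 1) := by
  noncomm_ring

theorem mulMono {A B C : Submodule k EndM} (h : B ≤ C) : A * B ≤ A * C :=
  mul_le_mul' le_rfl h

theorem monoMul {A B C : Submodule k EndM} (h : B ≤ C) : B * A ≤ C * A :=
  mul_le_mul' h le_rfl

theorem prod_map_coe (l : List GLM) :
    (l.map fun g => (g : M →ₗ[k] M) - 1) = List.map (fun g : GLM => (g : EndM) - 1) l := by
  induction l with
  | nil => rfl
  | cons a t ih => exact congrArg (List.cons _) ih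

theorem disp_mul_le (H : Subgroup GLM) : disp H * disp H ≤ disp H := by
  rw [disp, Submodule.span_mul_span, Submodule.span_le]
  rintro _ ⟨_, ⟨g, hg, rfl⟩, _, ⟨h, hh, rfl⟩, rfl⟩
  have e : ((g : EndM) - 1) * ((h : EndM) - 1) =
      (((g * h : GLM) : EndM) - 1) - ((g : EndM) - 1) - ((h : EndM) - 1) := by
    rw [Units.val_mul]
    noncomm_ring
  show ((g : EndM) - 1) * ((h : EndM) - 1) ∈ _
  rw [e]
  exact Submodule.sub_mem _ (Submodule.sub_mem _ (mem_disp (H.mul_mem hg hh)) (mem_disp hg))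
    (mem_disp hh)

theorem isUnipotentOn_iff (H : Subgroup GLM) :
    IsUnipotentOn H ↔ ∃ n, (disp H) ^ n = ⊥ := by
  constructor
  · rintro ⟨n, hn⟩
    refine ⟨n, eq_bot_iff.2 ?_⟩
    rw [disp, Submodule.span_pow, Submodule.span_le]
    intro x hx
    obtain ⟨f, rfl⟩ := Set.mem_pow.1 hx
    choose g hg hge using fun i => (f i).2
    have h1 := hn (List.ofFn g) (fun y hy => by
      obtain ⟨i, rfl⟩ := List.mem_ofFn.1 hy
      exact hg i) (List.length_ofFn ..)
    rw [prod_map_coe, List.map_ofFn] at h1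
    refine (Submodule.mem_bot k).2 (Eq.trans ?_ h1)
    exact congrArg List.prod (congrArg List.ofFn (funext fun i => (hge i).symm))
  · rintro ⟨n, hn⟩
    refine ⟨n, fun l hl hlen => (Submodule.mem_bot k).1 ?_⟩
    rw [← hn, ← hlen]
    clear hlen
    induction l with
    | nil => simp only [prod_map_coe, List.map_nil, List.prod_nil, List.length_nil, pow_zero]; exact Submodule.one_le.1 le_rfl
    | cons a t ih =>
      rw [prod_map_coe] at ih ⊢
      rw [List.map_cons, List.prod_cons, List.length_cons, pow_succ']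
      exact Submodule.mul_mem_mul (mem_disp (hl a (List.mem_cons_self ..)))
        (ih fun g hg => hl g (List.mem_cons_of_mem _ hg))

theorem isUnipotentOn_of_le {H : Subgroup GLM} {V : Submodule k EndM} (hH : disp H ≤ V) {n : ℕ}
    (hV : V ^ n = ⊥) : IsUnipotentOn H :=
  (isUnipotentOn_iff H).2 ⟨n, le_bot_iff.1 (hV ▸ pow_le_pow_left' hH n)⟩

theorem isUnipotentOn_mono {H K : Subgroup GLM} (h : H ≤ K) (hK : IsUnipotentOn K) :
    IsUnipotentOn H :=
  let ⟨n, hn⟩ := hK
  ⟨n, fun l hl hlen => hn l (fun g hg => h (hl g hg)) hlen⟩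

theorem isUnipotentOn_bot : IsUnipotentOn (⊥ : Subgroup GLM) := by
  refine ⟨1, fun l hl hlen => ?_⟩
  obtain ⟨a, rfl⟩ := List.length_eq_one_iff.1 hlen
  have : a = 1 := Subgroup.mem_bot.1 (hl a (List.mem_singleton_self a))
  simp [this]

/-- A unipotent group is nilpotent. -/
theorem isNilpotent_of_isUnipotentOn {K : Subgroup GLM} (hK : IsUnipotentOn K) :
    Group.IsNilpotent K := by
  obtain ⟨n, hn⟩ := (isUnipotentOn_iff K).1 hK
  set V := disp K with hV
  have hstep : ∀ m, ∀ x ∈ V ^ (m + 1), ∀ g ∈ K, x * (g : EndM) ∈ V ^ (m + 1) := by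
    intro m x hx g hg
    have e : x * (g : EndM) = x * ((g : EndM) - 1) + x := by noncomm_ring
    rw [e]
    refine add_mem ?_ hx
    have h2 : V ^ (m + 1) * V ≤ V ^ (m + 1) := by
      rw [pow_succ, mul_assoc]
      exact mulMono (disp_mul_le K)
    exact h2 (Submodule.mul_mem_mul hx (mem_disp hg))
  let G' : ℕ → Subgroup GLM := fun m =>
    { carrier := {g | g ∈ K ∧ (g : EndM) - 1 ∈ V ^ (m + 1)}
      one_mem' := ⟨K.one_mem, by simp⟩
      mul_mem' := fun {a b} ha hb => ⟨K.mul_mem ha.1 hb.1, by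
        have e : ((a * b : GLM) : EndM) - 1 =
            ((a : EndM) - 1) * (b : EndM) + ((b : EndM) - 1) := by
          rw [Units.val_mul]
          noncomm_ring
        rw [e]
        exact add_mem (hstep m _ ha.2 b hb.1) hb.2⟩
      inv_mem' := fun {a} ha => ⟨K.inv_mem ha.1, by
        have e : ((a⁻¹ : GLM) : EndM) - 1 = -(((a : EndM) - 1) * ((a⁻¹ : GLM) : EndM)) := by
          rw [sub_mul, Units.mul_inv, one_mul, neg_sub]
        rw [e]
        exact neg_mem (hstep m _ ha.2 _ (K.inv_mem ha.1))⟩ }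
  have hlow : ∀ m, K.lowerCentralSeries m ≤ G' m := by
    intro m
    induction m with
    | zero => exact fun g hg => ⟨hg, by rw [pow_one]; exact mem_disp hg⟩
    | succ m ih =>
      rw [Subgroup.lowerCentralSeries_succ, Subgroup.commutator_le]
      intro g hg h hh
      obtain ⟨hgK, hgV⟩ := ih hg
      refine ⟨K.mul_mem (K.mul_mem (K.mul_mem hgK hh) (K.inv_mem hgK)) (K.inv_mem hh), ?_⟩
      have e : ((⁅g, h⁆ : GLM) : EndM) - 1 = (((g : EndM) - 1) * ((h : EndM) - 1) -
          ((h : EndM) - 1) * ((g : EndM) - 1)) * ((g⁻¹ * h⁻¹ : GLM) : EndM) := by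
        have e1 : ((g : EndM) - 1) * ((h : EndM) - 1) - ((h : EndM) - 1) * ((g : EndM) - 1) =
            ((g * h : GLM) : EndM) - ((h * g : GLM) : EndM) := by
          rw [Units.val_mul, Units.val_mul]
          noncomm_ring
        rw [e1, sub_mul, ← Units.val_mul, ← Units.val_mul, commutatorElement_def,
          show h * g * (g⁻¹ * h⁻¹) = 1 by group, Units.val_one, mul_assoc (g * h)]
      rw [e]
      refine hstep _ _ ?_ _ (K.mul_mem (K.inv_mem hgK) (K.inv_mem hh))
      refine sub_mem ?_ ?_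
      · rw [pow_succ V (m + 1)]
        exact Submodule.mul_mem_mul hgV (mem_disp hh)
      · rw [pow_succ' V (m + 1)]
        exact Submodule.mul_mem_mul (mem_disp hh) hgV
  rw [Subgroup.isNilpotent_iff_lowerCentralSeries]
  refine ⟨n, eq_bot_iff.2 fun g hg => ?_⟩
  have h1 := (hlow n hg).2
  rw [pow_succ, hn, Submodule.bot_mul, Submodule.mem_bot, sub_eq_zero] at h1
  exact Subgroup.mem_bot.2 (Units.ext h1)

/-- A unipotent group extended by a unipotent group normalizing it is unipotent. -/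
theorem isUnipotentOn_sup {I C : Subgroup GLM} (hI : IsUnipotentOn I) (hC : IsUnipotentOn C)
    (hnorm : C ≤ Subgroup.normalizer (I : Set GLM)) : IsUnipotentOn (I ⊔ C) := by
  obtain ⟨n, hn⟩ := (isUnipotentOn_iff I).1 hI
  obtain ⟨m, hm⟩ := (isUnipotentOn_iff C).1 hC
  set a := disp I with ha
  set b := disp C with hb
  have haa : a * a ≤ a := disp_mul_le I
  have hbb : b * b ≤ b := disp_mul_le C
  have hba : b * a ≤ a ⊔ a * b := by
    rw [ha, hb, disp, disp, Submodule.span_mul_span, Submodule.span_le]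
    rintro _ ⟨_, ⟨y, hy, rfl⟩, _, ⟨x, hx, rfl⟩, rfl⟩
    have hx' : y * x * y⁻¹ ∈ I := (Subgroup.mem_normalizer_iff.1 (hnorm hy) x).1 hx
    have e : ((y : EndM) - 1) * ((x : EndM) - 1) =
        ((((y * x * y⁻¹ : GLM) : EndM) - 1) - ((x : EndM) - 1)) +
          (((y * x * y⁻¹ : GLM) : EndM) - 1) * ((y : EndM) - 1) := by
      have e1 : ((y * x * y⁻¹ : GLM) : EndM) * (y : EndM) = (y : EndM) * (x : EndM) := by
        rw [← Units.val_mul, ← Units.val_mul, inv_mul_cancel_right]
      simp only [sub_mul, mul_sub, one_mul, mul_one, e1]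
      abel
    show ((y : EndM) - 1) * ((x : EndM) - 1) ∈ _
    rw [e]
    exact Submodule.add_mem_sup (sub_mem (mem_disp hx') (mem_disp hx))
      (Submodule.mul_mem_mul (mem_disp hx') (mem_disp hy))
  set J := a ⊔ a * b with hJ
  have haJ : a * J ≤ J := by
    rw [hJ, Submodule.mul_sup, ← mul_assoc]
    exact sup_le_sup haa (monoMul haa)
  have hJb : J * b ≤ J := by
    rw [hJ, Submodule.sup_mul, mul_assoc]
    exact sup_le le_sup_right ((mulMono hbb).trans le_sup_right)
  have hbJ : b * J ≤ J := by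
    rw [hJ, Submodule.mul_sup, ← mul_assoc]
    exact sup_le hba ((monoMul hba).trans hJb)
  have hJJ : J * J ≤ J := by
    conv_lhs => arg 1; rw [hJ]
    rw [Submodule.sup_mul, mul_assoc]
    exact sup_le haJ ((mulMono hbJ).trans haJ)
  -- powers of `J`
  have hJpow : ∀ j, J ^ (j + 1) ≤ a ^ (j + 1) ⊔ a ^ (j + 1) * b := by
    intro j
    induction j with
    | zero => rw [pow_one, pow_one]
    | succ j ih =>
      rw [pow_succ J (j + 1)]
      refine (monoMul ih).trans ?_
      rw [Submodule.sup_mul, mul_assoc]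
      have h1 : a ^ (j + 1) * J ≤ a ^ (j + 2) ⊔ a ^ (j + 2) * b := by
        rw [hJ, Submodule.mul_sup, ← mul_assoc, ← pow_succ]
      exact sup_le h1 ((mulMono hbJ).trans h1)
  -- the displacement space of the join
  set T := J ⊔ b with hT
  have hIC : disp (I ⊔ C) ≤ T := by
    rw [disp, Submodule.span_le]
    rintro _ ⟨g, hg, rfl⟩
    rw [Subgroup.coe_mul_of_right_le_normalizer_left I C hnorm] at hg
    obtain ⟨x, hx, y, hy, rfl⟩ := hg
    show ((x * y : GLM) : EndM) - 1 ∈ T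
    rw [Units.val_mul, mul_sub_one]
    exact add_mem (add_mem
      (Submodule.mem_sup_left (Submodule.mem_sup_right
        (Submodule.mul_mem_mul (mem_disp hx) (mem_disp hy))))
      (Submodule.mem_sup_left (Submodule.mem_sup_left (mem_disp hx))))
      (Submodule.mem_sup_right (mem_disp hy))
  have hTpow : ∀ j, T ^ (j + 1) ≤ J ⊔ b ^ (j + 1) := by
    intro j
    induction j with
    | zero => rw [pow_one, pow_one, hT]
    | succ j ih =>
      rw [pow_succ T (j + 1)]
      refine (monoMul ih).trans ?_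
      rw [hT, Submodule.sup_mul, Submodule.mul_sup J J b, Submodule.mul_sup (b ^ (j + 1)) J b]
      have h2 : b ^ (j + 1) * J ≤ J := by
        clear ih
        induction j with
        | zero => rw [pow_one]; exact hbJ
        | succ j ihj =>
          rw [pow_succ b (j + 1), mul_assoc]
          exact (mulMono hbJ).trans ihj
      exact sup_le (sup_le (hJJ.trans le_sup_left) (hJb.trans le_sup_left))
        (sup_le (h2.trans le_sup_left) ((pow_succ b (j + 1)).symm.le.trans le_sup_right))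
  refine isUnipotentOn_of_le hIC (n := (m + 1) * (n + 1)) (le_bot_iff.1 ?_)
  rw [pow_mul]
  have h3 : T ^ (m + 1) ≤ J := by
    refine (hTpow m).trans (sup_le le_rfl ?_)
    rw [pow_succ, hm, Submodule.bot_mul]
    exact bot_le
  refine (pow_le_pow_left' h3 _).trans ((hJpow n).trans ?_)
  rw [pow_succ, hn, Submodule.bot_mul, Submodule.bot_mul, bot_sup_eq]

/-! ### The family -/

section family

variable (W : Set (Subgroup (LinearMap.GeneralLinearGroup k M)))

/-- The subgroup generated by the members of `W` inside `H`. -/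
def gen (H : Subgroup GLM) : Subgroup GLM := ⨆ A ∈ W, ⨆ (_ : A ≤ H), A

variable {W}

theorem gen_le (H : Subgroup GLM) : gen W H ≤ H := iSup₂_le fun _ _ => iSup_le id

theorem le_gen {A H : Subgroup GLM} (hA : A ∈ W) (h : A ≤ H) : A ≤ gen W H :=
  le_iSup₂_of_le A hA (le_iSup_of_le h le_rfl)

theorem gen_le_iff {H L : Subgroup GLM} : gen W H ≤ L ↔ ∀ A ∈ W, A ≤ H → A ≤ L :=
  ⟨fun h _ hA hAH => (le_gen hA hAH).trans h, fun h => iSup₂_le fun A hA => iSup_le (h A hA)⟩

theorem gen_mono {H L : Subgroup GLM} (h : H ≤ L) : gen W H ≤ gen W L :=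
  gen_le_iff.2 fun _ hA hAH => le_gen hA (hAH.trans h)

/-- A maximal unipotent subgroup generated by members of `W`. -/
structure IsMax (W : Set (Subgroup GLM)) (K : Subgroup GLM) : Prop where
  unip : IsUnipotentOn K
  closed : ∀ A ∈ W, (∀ a ∈ A, ((a : GLM) : EndM) - 1 ∈ disp K) → A ≤ K
  gen_eq : gen W K = K
  max : ∀ L : Subgroup GLM, IsUnipotentOn L → K ≤ L → gen W L ≤ K

theorem exists_isMax [FiniteDimensional k M] (H : Subgroup GLM) (hH : IsUnipotentOn H) :
    ∃ K, IsMax W K ∧ gen W H ≤ K := by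
  let s : Set (Submodule k EndM) :=
    {V | ∃ L : Subgroup GLM, IsUnipotentOn L ∧ gen W L = L ∧ disp (gen W H) ≤ disp L ∧ V = disp L}
  have hgg : ∀ H : Subgroup GLM, gen W (gen W H) = gen W H := fun H =>
    le_antisymm (gen_le _) (gen_le_iff.2 fun A hA hAH => le_gen hA (le_gen hA hAH))
  obtain ⟨V, ⟨L, hLu, hLg, hHL, rfl⟩, hmax⟩ := set_has_maximal_iff_noetherian.2
    (inferInstance : IsNoetherian k EndM) s
    ⟨_, gen W H, isUnipotentOn_mono (gen_le H) hH, hgg H, le_rfl, rfl⟩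
  obtain ⟨n, hn⟩ := (isUnipotentOn_iff L).1 hLu
  set V := disp L with hV
  let K : Subgroup GLM := ⨆ A ∈ W, ⨆ (_ : ∀ a ∈ A, ((a : GLM) : EndM) - 1 ∈ V), A
  have hKV : ∀ g ∈ K, (g : EndM) - 1 ∈ V := by
    intro g hg
    refine Subgroup.iSup_induction (C := fun g : GLM => (g : EndM) - 1 ∈ V) _ hg ?_ (by simp) ?_
    · intro A x hx
      by_cases hA : A ∈ W
      · rw [iSup_pos hA] at hx
        by_cases hAV : ∀ a ∈ A, ((a : GLM) : EndM) - 1 ∈ V
        · rw [iSup_pos hAV] at hx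
          exact hAV x hx
        · rw [iSup_neg hAV, Subgroup.mem_bot] at hx
          simp [hx]
      · rw [iSup_neg hA, Subgroup.mem_bot] at hx
        simp [hx]
    · intro x y hx hy
      rw [Units.val_mul, mul_sub_one]
      exact add_mem (add_mem (disp_mul_le L (Submodule.mul_mem_mul hx hy)) hx) hy
  have hK : disp K ≤ V := by
    rw [disp, Submodule.span_le]
    rintro _ ⟨g, hg, rfl⟩
    exact hKV g hg
  have hmem : ∀ A ∈ W, (∀ a ∈ A, ((a : GLM) : EndM) - 1 ∈ V) → A ≤ K := fun A hA h =>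
    le_iSup₂_of_le A hA (le_iSup_of_le h le_rfl)
  have hLK : L ≤ K := by
    rw [← hLg]
    exact gen_le_iff.2 fun A hA hAL => hmem A hA fun a ha => mem_disp (hAL ha)
  refine ⟨K, ⟨isUnipotentOn_of_le hK hn, fun A hA h => hmem A hA fun a ha => hK (h a ha), ?_, ?_⟩,
    gen_le_iff.2 fun A hA hAH => hmem A hA fun a ha => hHL (mem_disp (le_gen hA hAH ha))⟩
  · refine le_antisymm (gen_le K) ?_
    exact iSup₂_le fun A hA => iSup_le fun h => le_gen hA (hmem A hA h)
  · intro L' hL'u hKL'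
    refine gen_le_iff.2 fun A hA hAL' => hmem A hA fun a ha => ?_
    have hVle : V ≤ disp (gen W L') := by
      refine disp_mono ?_
      rw [← hLg]
      exact gen_mono (hLK.trans hKL')
    have h1 : ¬ V < disp (gen W L') := hmax _ ⟨gen W L', isUnipotentOn_mono (gen_le L') hL'u,
      hgg L', hHL.trans hVle, rfl⟩
    rw [hVle.eq_of_not_lt h1]
    exact mem_disp (le_gen hA hAL' ha)

variable {G : Subgroup (LinearMap.GeneralLinearGroup k M)}

/-- In a maximal subgroup, some member outside a smaller `I` normalizes it. -/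
theorem exists_member_normalizing (hWG : ∀ A ∈ W, A ≤ G)
    (hWconj : ∀ A ∈ W, ∀ g ∈ G, conjBy A g ∈ W) {K I : Subgroup GLM} (hK : IsMax W K)
    (hIK : I ≤ K) (hI : gen W I = I) (hne : ¬ K ≤ I) :
    ∃ A ∈ W, A ≤ K ∧ ¬ A ≤ I ∧ A ≤ Subgroup.normalizer (I : Set GLM) := by
  by_contra hno
  push Not at hno
  set N := Subgroup.normalizer (I : Set GLM) ⊓ K with hN
  have hIN : I ≤ N := le_inf Subgroup.le_normalizer hIK
  have hNmem : ∀ B ∈ W, B ≤ N → B ≤ I := by
    intro B hB hBN
    by_contra hBI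
    exact hno B hB (hBN.trans inf_le_right) hBI (hBN.trans inf_le_left)
  have hKG : K ≤ G := by
    rw [← hK.gen_eq]
    exact gen_le_iff.2 fun A hA _ => hWG A hA
  by_cases hNK : K ≤ N
  · refine hne ?_
    rw [← hK.gen_eq]
    exact gen_le_iff.2 fun A hA hAK => hNmem A hA (hAK.trans hNK)
  have := isNilpotent_of_isUnipotentOn hK.unip
  have hlt : N.subgroupOf K < ⊤ := lt_top_iff_ne_top.2 fun h => hNK (Subgroup.subgroupOf_eq_top.1 h)
  obtain ⟨g, hgn, hgN⟩ :=
    SetLike.exists_of_lt (Group.normalizerCondition_of_isNilpotent _ hlt)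
  have hstab : ∀ h : K, h ∈ Subgroup.normalizer (N.subgroupOf K : Set K) → ∀ x ∈ I,
      (h : GLM) * x * (h : GLM)⁻¹ ∈ I := by
    intro h hh x hx
    have hle : I ≤ I.comap (MulAut.conj (h : GLM)).toMonoidHom := by
      conv_lhs => rw [← hI]
      refine gen_le_iff.2 fun B hB hBI => ?_
      rw [← Subgroup.map_le_iff_le_comap]
      refine hNmem _ (hWconj B hB _ (hKG h.2)) ?_
      rintro _ ⟨y, hy, rfl⟩
      exact (Subgroup.mem_normalizer_iff.1 hh ⟨y, hIK (hBI hy)⟩).1 (hIN (hBI hy))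
    exact hle hx
  refine hgN ⟨Subgroup.mem_normalizer_iff.2 fun x => ⟨hstab g hgn x, fun hx => ?_⟩, g.2⟩
  have h1 := hstab g⁻¹ (inv_mem hgn) _ hx
  simpa [mul_assoc] using h1

theorem isUnipotentOn_iSup [FiniteDimensional k M] (hWG : ∀ A ∈ W, A ≤ G)
    (hWW : ∀ A ∈ W, ∀ B ∈ W, IsUnipotentOn (A ⊔ B))
    (hWconj : ∀ A ∈ W, ∀ g ∈ G, conjBy A g ∈ W) :
    IsUnipotentOn (⨆ A ∈ W, A) := by
  obtain ⟨K₀, hK₀, -⟩ := exists_isMax (W := W) ⊥ isUnipotentOn_bot
  by_contra hbad
  obtain ⟨A₁, hA₁, hA₁K⟩ : ∃ A ∈ W, ¬ A ≤ K₀ := by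
    by_contra hall
    push Not at hall
    exact hbad (isUnipotentOn_mono (iSup₂_le hall) hK₀.unip)
  obtain ⟨K₁, hK₁, hA₁K₁⟩ := exists_isMax (W := W) A₁
    (isUnipotentOn_mono le_sup_left (hWW A₁ hA₁ A₁ hA₁))
  let s : Set (Submodule k EndM) := {V | ∃ K K' : Subgroup GLM, IsMax W K ∧ IsMax W K' ∧
    K ≠ K' ∧ V = disp (gen W (K ⊓ K'))}
  obtain ⟨V, ⟨K, K', hK, hK', hne, rfl⟩, hmax⟩ := set_has_maximal_iff_noetherian.2
    (inferInstance : IsNoetherian k EndM) s
    ⟨_, K₀, K₁, hK₀, hK₁, fun h => hA₁K (h ▸ (le_gen hA₁ le_rfl).trans hA₁K₁), rfl⟩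
  set I := gen W (K ⊓ K') with hIdef
  have hIK : I ≤ K := (gen_le _).trans inf_le_left
  have hIK' : I ≤ K' := (gen_le _).trans inf_le_right
  have hIg : gen W I = I :=
    le_antisymm (gen_le _) (gen_le_iff.2 fun A hA hA' => le_gen hA (le_gen hA hA'))
  have hnK : ¬ K ≤ I := fun h => by
    have hle : K ≤ K' := h.trans hIK'
    have h2 : K' ≤ K := hK'.gen_eq.ge.trans (hK.max K' hK'.unip hle)
    exact hne (le_antisymm hle h2)
  have hnK' : ¬ K' ≤ I := fun h => by
    have hle : K' ≤ K := h.trans hIK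
    have h2 : K ≤ K' := hK.gen_eq.ge.trans (hK'.max K hK.unip hle)
    exact hne (le_antisymm h2 hle)
  obtain ⟨A, hA, hAK, hAI, hAn⟩ := exists_member_normalizing hWG hWconj hK hIK hIg hnK
  obtain ⟨B, hB, hBK, hBI, hBn⟩ := exists_member_normalizing hWG hWconj hK' hIK' hIg hnK'
  obtain ⟨Z, hZ, hLZ⟩ := exists_isMax (W := W) (I ⊔ (A ⊔ B))
    (isUnipotentOn_sup (isUnipotentOn_mono hIK hK.unip) (hWW A hA B hB) (sup_le hAn hBn))
  have hIZ : I ≤ Z := hIg.ge.trans ((gen_mono le_sup_left).trans hLZ)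
  have hAZ : A ≤ Z := (le_gen hA (le_sup_left.trans le_sup_right)).trans hLZ
  have hBZ : B ≤ Z := (le_gen hB (le_sup_right.trans le_sup_right)).trans hLZ
  -- `Z` meets each of `K`, `K'` in more than `I`
  have key : ∀ (P : Subgroup GLM) (C : Subgroup GLM), IsMax W P → I ≤ P → C ∈ W → C ≤ P → C ≤ Z →
      ¬ C ≤ I → P = Z := by
    intro P C hP hIP hC hCP hCZ hCI
    by_contra hPZ
    have hle : disp I ≤ disp (gen W (P ⊓ Z)) :=
      disp_mono (hIg.ge.trans (gen_mono (le_inf hIP hIZ)))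
    refine hmax _ ⟨P, Z, hP, hZ, hPZ, rfl⟩ (lt_of_le_of_ne hle fun he => hCI ?_)
    have hC' : ∀ c ∈ C, ((c : GLM) : EndM) - 1 ∈ disp I := fun c hc =>
      he ▸ mem_disp (le_gen hC (le_inf hCP hCZ) hc)
    exact le_gen hC (le_inf (hK.closed C hC fun c hc => disp_mono hIK (hC' c hc))
      (hK'.closed C hC fun c hc => disp_mono hIK' (hC' c hc)))
  exact hne ((key K A hK hIK hA hAK hAZ hAI).trans (key K' B hK' hIK' hB hBK hBZ hBI).symm)

theorem conjBy_iSup (hWconj : ∀ A ∈ W, ∀ g ∈ G, conjBy A g ∈ W) {g : GLM} (hg : g ∈ G) :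
    conjBy (⨆ A ∈ W, A) g = ⨆ A ∈ W, A := by
  have h1 : ∀ g ∈ G, conjBy (⨆ A ∈ W, A) g ≤ ⨆ A ∈ W, A := by
    intro g hg
    simp only [conjBy, Subgroup.map_iSup]
    exact iSup₂_le fun A hA => le_iSup₂_of_le _ (hWconj A hA g hg) le_rfl
  refine le_antisymm (h1 g hg) fun x hx => ⟨g⁻¹ * x * g, ?_, ?_⟩
  · exact h1 g⁻¹ (inv_mem hg) ⟨x, hx, by simp⟩
  · simp [mul_assoc]

end family

end Cfsg.Agent.RootSubgroups.UnipotentJoin
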